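import Groth.Agent.Lib.RegImmExt
import Groth.Agent.Lib.ExtClosed

/-!
# Vanishing of `Ext` out of a regular immersion below the codimension
-/

set_option linter.style.haveILetI false
set_option linter.unusedSectionVars false
set_option backward.isDefEq.respectTransparency false
set_option backward.isDefEq.respectTransparency.types false
set_option maxHeartbeats 1000000

universe u

open CategoryTheory CategoryTheory.Limits AlgebraicGeometry TopologicalSpace Opposite
open RingTheory.Sequence

noncomputable section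

namespace Groth.Agent.ExtCodim

variable {P X : Scheme.{u}} (ι : X ⟶ P) [IsClosedImmersion ι] {L : P.Modules} (I : InjectiveResolution L)

/-- A module whose restrictions to the members of a cover vanish is zero. -/
theorem isZero_of_restrict (G : P.Modules)
    (h : ∀ p : P, ∃ (U : Scheme.{u}) (j : U ⟶ P) (_ : IsOpenImmersion j), p ∈ j.opensRange ∧ IsZero (G.restrict j)) :
    IsZero G := by
  rw [IsZero.iff_id_eq_zero]
  refine Scheme.Modules.hom_ext _ _ fun W => ?_
  ext x
  refine AModX.eq_of_locally _ _ fun p hp => ?_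
  obtain ⟨U, j, _, hpj, hz⟩ := h p
  refine ⟨j ''ᵁ (j ⁻¹ᵁ W), ?_, ?_, ?_⟩
  · rintro _ ⟨u, hu, rfl⟩; exact hu
  · obtain ⟨u, rfl⟩ := hpj
    exact ⟨u, hp, rfl⟩
  · have h0 := (IsZero.iff_id_eq_zero _).1 hz
    have h1 := fun y : Γ(G, j ''ᵁ (j ⁻¹ᵁ W)) =>
      congrArg (fun φ : G.restrict j ⟶ G.restrict j => φ.app (j ⁻¹ᵁ W) y) h0
    refine (h1 _).trans ?_
    exact (map_zero (AModX.res G _)).symm

/-- The local `Ext` sheaves vanish below the codimension. -/
theorem isZero_G {c : ℕ} (hι : RegImm.IsRegularImmersionOfCodim RegImm.Kind.regular c ι)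
    (hL : FlatMod.IsFinLocFree L) (q : ℕ) (hq : q < c) : IsZero (RegImmExt.G ι I q) := by
  refine isZero_of_restrict _ fun p => ?_
  by_cases hp : p ∈ Set.range ι
  · obtain ⟨x, rfl⟩ := hp
    obtain ⟨U, hxU, -, rs, hlen, hreg, hker⟩ := hι.2 x
    obtain ⟨V, n, hxV, ⟨e⟩⟩ := hL (ι x)
    obtain ⟨g, hle, hg⟩ := U.2.exists_basicOpen_le ⟨ι x, hxV⟩ hxU
    let W := P.basicOpen g
    have hW : IsAffineOpen W := U.2.basicOpen g
    have hWU : W ≤ U.1 := P.basicOpen_le g
    let a := (P.presheaf.map (homOfLE hWU).op).hom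
    let rs' := rs.map a
    have hker' : RingHom.ker (ι.app W).hom = Ideal.ofList rs' := by
      show RingHom.ker (ι.app W).hom = Ideal.ofList (rs.map a)
      rw [← Ideal.map_ofList, ← hker, ← Scheme.Hom.ker_apply ι ⟨W, hW⟩, ← Scheme.Hom.ker_apply ι U]
      exact (ι.ker.map_ideal (U := ⟨W, hW⟩) (V := U) hWU).symm
    have hreg' : IsWeaklyRegular Γ(P, W) rs' := by
      haveI := U.2.isLocalization_basicOpen g
      exact hreg.toIsWeaklyRegular.of_isLocalization Γ(P, W) (Submonoid.powers g)
    refine ⟨_, hW.fromSpec, inferInstance, by rw [hW.opensRange_fromSpec]; exact hg, ?_⟩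
    let N : ModuleCat.{u} Γ(P, W) := ModuleCat.of Γ(P, W) (ULift.{u} (Fin n) →₀ Γ(P, W))
    let eL : L.restrict hW.fromSpec ≅ tilde N :=
      QCoh.freeChart hW hle e ≪≫ QCoh.freeModIso _ n ≪≫ (tildeFinsupp (R := Γ(P, W)) _).symm
    have hN : IsWeaklyRegular N rs' :=
      ((TensorProduct.lid Γ(P, W) (ULift.{u} (Fin n) →₀ Γ(P, W))).isWeaklyRegular_congr rs').mp
        (hreg'.isWeaklyRegular_rTensor (M₂ := ULift.{u} (Fin n) →₀ Γ(P, W)))
    obtain ⟨eM⟩ := RegImmExt.nonempty_chart ι hW rs' hker'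
    obtain ⟨b⟩ := ExtShCoh.nonempty_homology_restrict hW.fromSpec I
      ((Scheme.Modules.pushforward ι).obj (Coh.structureModule X)) q
    obtain ⟨-, -, hz⟩ := KoszulExt.ext_quotient (ExtShLocal.restrictRes hW.fromSpec I) N eL rs' hreg'
    exact (hz hN q (by simp [rs', hlen, hq])).of_iso
      (b ≪≫ HomologicalComplex.homologyMapIso (KoszulExt.cxIso _ eM.symm) q)
  · obtain ⟨_, ⟨W, hW, rfl⟩, hx, hsub⟩ := P.isBasis_affineOpens.exists_subset_of_mem_open hp
      ι.isClosedEmbedding.isClosed_range.isOpen_compl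
    exact ⟨_, hW.fromSpec, inferInstance, by rw [hW.opensRange_fromSpec]; exact hx,
      RegImmExt.isZero_chart ι I q hW hsub⟩

theorem subsingleton_ext [HasExt.{u} P.Modules] {c : ℕ}
    (hι : RegImm.IsRegularImmersionOfCodim RegImm.Kind.regular c ι) (hL : FlatMod.IsFinLocFree L)
    (F : X.Modules) (q : ℕ) (hq : q < c) :
    Subsingleton (Abelian.Ext ((Scheme.Modules.pushforward ι).obj F) L q) := by
  haveI : EnoughInjectives P.Modules := inferInstanceAs (EnoughInjectives (SheafOfModules _))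
  let I : InjectiveResolution L := InjectiveResolution.of _
  have hz : ∀ r, r < c → IsZero ((ClosedShriek.scx ι I).homology r) := fun r hr => by
    apply ClosedShriek.isZero_of_push ι
    haveI := ClosedShriek.preservesHomology_push ι
    exact (isZero_G ι I hι hL r hr).of_iso
      ((((ClosedShriek.scx ι I).sc r).mapHomologyIso (Scheme.Modules.pushforward ι)).symm ≪≫
        HomologicalComplex.homologyMapIso (ClosedShriek.pushScxIso ι I) r)
  obtain ⟨η, hη⟩ := ExtClosed.exists_universal ι I q fun r hr => hz r (hr.trans hq)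
  haveI : Subsingleton (F ⟶ (ClosedShriek.scx ι I).homology q) := ⟨fun a b => (hz q hq).eq_of_tgt a b⟩
  exact (hη F).2.subsingleton

end Groth.Agent.ExtCodim
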